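import Cfsg.Agent.CosetEnum.Fi22Order.Lower
import Cfsg.Agent.CosetEnum.Fi22H.Orbits
import Cfsg.Agent.CosetEnum.Fi22G.Bound
import Cfsg.Agent.CosetEnum.Fi22F.Bound
import Cfsg.Agent.CosetEnum.Fi22E.Bound
import Cfsg.Agent.CosetEnum.Fi22D.Bound
import Cfsg.Agent.CosetEnum.Fi22C.Bound
import Cfsg.Agent.CosetEnum.Fi22B.Bound
import Cfsg.Agent.CosetEnum.Fi22A.Bound
import Cfsg.Agent.CosetEnum.Fi22O.Action

set_option autoImplicit false
set_option maxRecDepth 100000

/-! The order of the presented Fischer group Fi22 and faithfulness of its action on 3510 cosets. -/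

namespace CfsgLib.CosetEnum.Fi22

/-- The group is finite of order at most 64561751654400. -/
theorem finite_and_card_le : Finite setup.Grp ∧ Nat.card setup.Grp ≤ 64561751654400 := by
  have h1 := Fi22G.bound 1 ⟨setup.finite_letSub_nil, setup.card_letSub_nil⟩
  have h2 := Fi22F.bound _ h1
  have h3 := Fi22E.bound _ h2
  have h4 := Fi22D.bound _ h3
  have h5 := Fi22C.bound _ h4
  have h6 := Fi22B.bound _ h5
  have h7 := Fi22A.bound _ h6
  obtain ⟨φ, e, -, -, -⟩ := Fi22O.action
  have hH : Fi22O.enum.H = setup.letSub Fi22A.enum.L := by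
    rw [← setup.closure_localG]
    refine congrArg Subgroup.closure (Set.image_congr fun s hs => ?_)
    have hs' : s < 8 := hs
    interval_cases s <;> simp [prodw, Setup.localG, Fi22O.enum, Fi22O.sW, Fi22A.enum]
  rw [← hH] at h7
  obtain ⟨hfin, hle⟩ := h7
  haveI := hfin
  haveI : Finite (setup.Grp ⧸ Fi22O.enum.H) := Finite.of_equiv _ e.symm
  refine ⟨Finite.of_equiv _ (Subgroup.groupEquivQuotientProdSubgroup (s := Fi22O.enum.H)).symm, ?_⟩
  rw [Subgroup.card_eq_card_quotient_mul_card_subgroup Fi22O.enum.H, Nat.card_congr e, Nat.card_fin]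
  exact (Nat.mul_le_mul_left _ hle).trans (by decide +kernel)

theorem finite_grp : Finite setup.Grp := finite_and_card_le.1

/-- The coset action, with the order of the group and faithfulness. -/
theorem order_and_action :
    ∃ (φ : setup.Grp →* Equiv.Perm (Fin Fi22H.enum.n)) (e : setup.Grp ⧸ Fi22H.enum.H ≃ Fin Fi22H.enum.n),
      (∀ (w : List ℕ), (∀ x ∈ w, x < setup.k) → ∀ i : Fin Fi22H.enum.n,
        ((φ (prodw setup.g w))⁻¹ i).val = walk Fi22H.enum.tb w i) ∧
      (∀ (y : setup.Grp) (q : setup.Grp ⧸ Fi22H.enum.H), e (y • q) = φ y (e q)) ∧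
      e ((1 : setup.Grp) : setup.Grp ⧸ Fi22H.enum.H) = 0 ∧
      Function.Injective φ ∧ Nat.card setup.Grp = 64561751654400 := by
  haveI := finite_grp
  obtain ⟨φ, e, hφ, he, he0⟩ := Fi22H.action
  obtain ⟨hcard, hinj⟩ := card_eq_and_injective (φ := φ) finite_and_card_le.2 (Fi22H.card_range_ge_order φ hφ)
  exact ⟨φ, e, hφ, he, he0, hinj, hcard⟩

/-- The order of the presented Fischer group Fi22. -/
theorem card_Fi22 : Nat.card Cfsg.Spor.Fi22 = 64561751654400 := by
  obtain ⟨-, -, -, -, -, -, h⟩ := order_and_action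
  exact h

end CfsgLib.CosetEnum.Fi22
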